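import Cfsg.Agent.H50.RG.LDefs
import Cfsg.Agent.H262.Rg.Asm

/-!
# S5714: from `MixY` to `FixB` (task RG-L22)

* `mixY_anti`, `mixY_map` : `MixY R` is antitone in `R` and passes to quotients;
* `Bad R ε G` : the elements with `¬ MixY R` have proportion at most `ε`; it passes to quotients (`bad_surj`);
* `fixB_of_bad` : `Bad R ε T` gives `FixB T β ε` for `2 / R ≤ β`.
-/

set_option autoImplicit false

namespace Cfsg.Agent.H858.RG

open Module Cfsg Cfsg.Agent.H50.RG Cfsg.Agent.H262.Rg.Asm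
open scoped ComplexConjugate

universe u

section gen

variable {S T : Type*} [Group S] [Group T]

theorem mixY_anti {R R' : ℝ} (h : R' ≤ R) {y : T} (hy : MixY R y) : MixY R' y := fun n ρ h0 =>
  (mul_le_mul_of_nonneg_right h (Nat.cast_nonneg _)).trans (hy n ρ h0)

theorem mixY_map {R : ℝ} (π : S →* T) (hπ : Function.Surjective π) {y : S} (hy : MixY R y) : MixY R (π y) := by
  intro n ρ h0
  let σ : Representation ℂ S (Fin n → ℂ) := MonoidHom.comp ρ π
  have hσ : ∀ s v, σ s v = ρ (π s) v := fun _ _ => rfl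
  have e1 : fixd σ ⊤ = ⊥ := by
    rw [← h0]
    ext v
    constructor
    · intro h g _
      obtain ⟨s, rfl⟩ := hπ g
      exact h s trivial
    · intro h g _
      exact h (π g) trivial
  have e2 : fixd σ (Subgroup.zpowers y) = fixd ρ (Subgroup.zpowers (π y)) := by
    ext v
    constructor
    · rintro h g ⟨k, rfl⟩
      have h1 := h (y ^ k) ⟨k, rfl⟩
      rw [hσ, map_zpow] at h1
      exact h1
    · rintro h g ⟨k, rfl⟩
      have h1 := h (π y ^ k) ⟨k, rfl⟩
      rw [← map_zpow] at h1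
      exact h1
  have h1 := hy n σ e1
  rw [e2] at h1
  exact h1

/-- the elements `y` with `¬ MixY R y` have proportion at most `ε` -/
def Bad (R ε : ℝ) (T : Type*) [Group T] : Prop := (Nat.card {y : T // ¬ MixY R y} : ℝ) ≤ ε * Nat.card T

/-- `T` is a quotient of `S` -/
def Cov (S T : Type*) [Group S] [Group T] : Prop := ∃ π : S →* T, Function.Surjective π

theorem Cov.trans {S T U : Type*} [Group S] [Group T] [Group U] (h1 : Cov S T) (h2 : Cov T U) : Cov S U := by
  obtain ⟨π, hπ⟩ := h1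
  obtain ⟨τ, hτ⟩ := h2
  exact ⟨τ.comp π, hτ.comp hπ⟩

theorem cov_of_equiv (e : S ≃* T) : Cov S T := ⟨e.toMonoidHom, e.surjective⟩

theorem cov_of_range {X : Type*} [Group X] (f : S →* X) (hf : Function.Injective f) {G : Subgroup X}
    (hr : f.range = G) : Cov G S :=
  cov_of_equiv ((MonoidHom.ofInjective hf).trans (MulEquiv.subgroupCongr hr)).symm

theorem cov_mk (N : Subgroup S) [N.Normal] : Cov S (S ⧸ N) := ⟨QuotientGroup.mk' N, QuotientGroup.mk'_surjective N⟩

theorem Cov.card_le [Finite S] (h : Cov S T) : Nat.card T ≤ Nat.card S := by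
  obtain ⟨π, hπ⟩ := h
  exact Nat.card_le_card_of_surjective π hπ

/-- the preimage of a set of elements -/
theorem ker_mul_le [Finite S] (π : S →* T) (hπ : Function.Surjective π) (P : T → Prop) :
    Nat.card π.ker * Nat.card {t : T // P t} ≤ Nat.card {s : S // P (π s)} := by
  rw [← Nat.card_prod]
  have h1 : ∀ t, π (Function.surjInv hπ t) = t := Function.surjInv_eq hπ
  have h2 : ∀ p : π.ker × {t : T // P t}, π (p.1 * Function.surjInv hπ p.2.1) = p.2.1 := fun p => by
    rw [map_mul, h1, MonoidHom.mem_ker.1 p.1.2, one_mul]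
  refine Nat.card_le_card_of_injective
    (fun p => (⟨p.1 * Function.surjInv hπ p.2.1, by rw [h2]; exact p.2.2⟩ : {s : S // P (π s)})) fun p p' h => ?_
  have h3 : (p.1 : S) * Function.surjInv hπ p.2.1 = p'.1 * Function.surjInv hπ p'.2.1 := congrArg Subtype.val h
  have h4 : p.2.1 = p'.2.1 := by rw [← h2 p, ← h2 p', h3]
  rw [h4] at h3
  exact Prod.ext (Subtype.ext (mul_right_cancel h3)) (Subtype.ext h4)

theorem ker_mul [Finite S] (π : S →* T) (hπ : Function.Surjective π) :
    Nat.card π.ker * Nat.card T = Nat.card S := by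
  rw [Subgroup.card_eq_card_quotient_mul_card_subgroup π.ker, mul_comm,
    Nat.card_congr (QuotientGroup.quotientKerEquivOfSurjective π hπ).toEquiv]

/-- quotients -/
theorem bad_of_cov [Finite S] {R ε : ℝ} (hc : Cov S T) (h : Bad R ε S) : Bad R ε T := by
  obtain ⟨π, hπ⟩ := hc
  have h1 := ker_mul_le π hπ fun t => ¬ MixY R t
  have h2 : Nat.card {s : S // ¬ MixY R (π s)} ≤ Nat.card {s : S // ¬ MixY R s} :=
    Nat.card_le_card_of_injective (fun s : {s : S // ¬ MixY R (π s)} =>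
      (⟨s.1, fun h => s.2 (mixY_map π hπ h)⟩ : {s : S // ¬ MixY R s})) fun a b hab => Subtype.ext (congrArg
        (fun x : {s : S // ¬ MixY R s} => x.1) hab)
  have h3 : ((Nat.card π.ker * Nat.card {t : T // ¬ MixY R t} : ℕ) : ℝ) ≤ ε * Nat.card S :=
    (by exact_mod_cast h1.trans h2 : ((Nat.card π.ker * Nat.card {t : T // ¬ MixY R t} : ℕ) : ℝ) ≤ _).trans h
  rw [← ker_mul π hπ] at h3
  push_cast at h3
  have h4 : (0 : ℝ) < Nat.card π.ker := by exact_mod_cast Nat.card_pos
  have h5 : (Nat.card π.ker : ℝ) * Nat.card {t : T // ¬ MixY R t} ≤ Nat.card π.ker * (ε * Nat.card T) := by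
    linarith
  exact le_of_mul_le_mul_left h5 h4

end gen

section char

variable {T : Type u} [Group T] [Fintype T]

/-- an irreducible representation with a nontrivial character has no fixed vectors -/
theorem fixd_top_eq_bot {n : ℕ} (ρ : Representation ℂ T (Fin n → ℂ)) (hρ : ρ.IsIrreducible)
    (hne : ρ.character ≠ 1) : fixd ρ ⊤ = ⊥ := by
  have h1 : classInner ρ.character 1 = 0 :=
    Cfsg.Agent.Characters.Core.classInner_irr_ne ⟨n, ρ, hρ, rfl⟩ Cfsg.Agent.Characters.Core.isIrr_one hne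
  have h2 := trace_avg ρ (⊤ : Subgroup T)
  have h3 : LinearMap.trace ℂ (Fin n → ℂ) (avg ρ (⊤ : Subgroup T)) = classInner ρ.character 1 := by
    let := Fintype.ofFinite (⊤ : Subgroup T)
    rw [Cfsg.Agent.Characters.Core.classInner_def]
    unfold avg
    rw [map_smul, map_sum, smul_eq_mul]
    congr 1
    · rw [Subgroup.card_top]
    · simp only [Pi.one_apply, map_one, mul_one]
      exact Fintype.sum_equiv Subgroup.topEquiv.toEquiv _ _ fun s => rfl
  rw [h3, h1] at h2
  have h4 : finrank ℂ (fixd ρ ⊤) = 0 := by exact_mod_cast h2.symm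
  exact Submodule.finrank_eq_zero.1 h4

/-- the sum of the character over a subgroup -/
theorem sum_character {n : ℕ} (ρ : Representation ℂ T (Fin n → ℂ)) (Z : Subgroup T) :
    ∑ t ∈ (Set.toFinite (Z : Set T)).toFinset, ρ.character t = Nat.card Z * finrank ℂ (fixd ρ Z) := by
  have := Fintype.ofFinite Z
  have h2 := trace_avg ρ Z
  have h3 : LinearMap.trace ℂ (Fin n → ℂ) (avg ρ Z) = (Nat.card Z : ℂ)⁻¹ * ∑ s : Z, ρ.character s := by
    have : (Fintype.ofFinite Z) = ‹Fintype Z› := Subsingleton.elim _ _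
    unfold avg
    rw [this, map_smul, map_sum, smul_eq_mul]
    rfl
  rw [← h2, h3, mul_inv_cancel_left₀ (card_ne Z), ← Finset.sum_coe_sort (Set.toFinite (Z : Set T)).toFinset ρ.character]
  exact Fintype.sum_equiv (Equiv.subtypeEquivRight fun t => by simp) _ _ fun t => rfl

/-- **`FixB` from the proportion of `MixY`** -/
theorem fixB_of_bad {R ε β : ℝ} (hR : 0 < R) (h : Bad R ε T) (hβ : 2 / R ≤ β) : FixB T β ε := by
  refine ⟨{y | MixY R y}, h, ?_⟩
  rintro y hy χ ⟨n, ρ, hρ, rfl⟩ hne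
  have h0 := fixd_top_eq_bot ρ hρ hne
  have h1 : R * finrank ℂ (fixd ρ (Subgroup.zpowers y)) ≤ 2 * n := hy n ρ h0
  have hone : ρ.character 1 = (n : ℂ) := by
    rw [Representation.char_one, finrank_fin_fun]
  have hn : (n : ℂ) ≠ 0 := by
    rw [← hone]
    exact Cfsg.Agent.Characters.Core.isIrr_apply_one_ne_zero ⟨n, ρ, hρ, rfl⟩
  have hn' : (0 : ℝ) < n := by
    have : n ≠ 0 := by exact_mod_cast hn
    exact_mod_cast Nat.pos_of_ne_zero this
  have h2 := sum_character ρ (Subgroup.zpowers y)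
  have h3 : ∑ t ∈ (Set.toFinite (Subgroup.zpowers y : Set T)).toFinset, (ρ.character t / ρ.character 1).re =
      Nat.card (Subgroup.zpowers y) * finrank ℂ (fixd ρ (Subgroup.zpowers y)) / n := by
    rw [← Complex.re_sum, ← Finset.sum_div, h2, hone]
    have : ((Nat.card (Subgroup.zpowers y) : ℂ) * finrank ℂ (fixd ρ (Subgroup.zpowers y)) / n) =
      (((Nat.card (Subgroup.zpowers y) : ℝ) * finrank ℂ (fixd ρ (Subgroup.zpowers y)) / n : ℝ) : ℂ) := by
      push_cast
      rfl
    rw [this, Complex.ofReal_re]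
  rw [h3]
  have h4 : (finrank ℂ (fixd ρ (Subgroup.zpowers y)) : ℝ) / n ≤ β := by
    refine le_trans ?_ hβ
    rw [div_le_div_iff₀ hn' hR]
    linarith
  have h5 : (0 : ℝ) ≤ Nat.card (Subgroup.zpowers y) := Nat.cast_nonneg _
  rw [mul_div_assoc, mul_comm β]
  exact mul_le_mul_of_nonneg_left h4 h5

end char

section num

/-- the numerics: `R = (n² log q) ^ (A + 1)` -/
theorem two_div_le {T : Type u} [Finite T] [Nontrivial T] {n q A : ℕ} (hT : Nat.card T ≤ q ^ (n * n)) (hq : 2 ≤ q)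
    (hn : 2 ^ (A + 2) ≤ n) : 0 < ((n : ℝ) ^ 2 * Real.log q) ^ (A + 1) ∧
      2 / ((n : ℝ) ^ 2 * Real.log q) ^ (A + 1) ≤ 1 / (lg T : ℝ) ^ A := by
  have hn0 : 0 < n := lt_of_lt_of_le (by positivity) hn
  have hn1 : (1 : ℝ) ≤ n := by exact_mod_cast hn0
  have hlog2 : (1 / 2 : ℝ) ≤ Real.log 2 := by
    have := Real.log_two_gt_d9
    linarith
  have hlogq : Real.log 2 ≤ Real.log q := Real.log_le_log (by norm_num) (by exact_mod_cast hq)
  have hLq : (0 : ℝ) < Real.log q := by linarith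
  set L : ℝ := (n : ℝ) ^ 2 * Real.log q with hL
  have hLpos : 0 < L := by positivity
  -- `lg T ≤ 2 L`
  have hT1 : 1 < Nat.card T := Finite.one_lt_card
  have h1 : 2 ^ lg T ≤ Nat.card T := Nat.pow_log_le_self 2 (by omega)
  have h2 : (2 : ℝ) ^ lg T ≤ (q : ℝ) ^ (n * n) := by exact_mod_cast h1.trans hT
  have h3 : (lg T : ℝ) * Real.log 2 ≤ L := by
    have h4 := Real.log_le_log (by positivity) h2
    rw [Real.log_pow, Real.log_pow] at h4
    rw [hL, pow_two]
    exact_mod_cast h4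
  have h4 : (lg T : ℝ) ≤ 2 * L := by
    have h5 : (0 : ℝ) ≤ lg T := Nat.cast_nonneg _
    nlinarith
  have h5 : 1 ≤ lg T := Nat.log_pos (by norm_num) hT1
  have h5' : (1 : ℝ) ≤ lg T := by exact_mod_cast h5
  refine ⟨by positivity, ?_⟩
  rw [div_le_div_iff₀ (by positivity) (by positivity), one_mul]
  have h6 : (lg T : ℝ) ^ A ≤ (2 * L) ^ A := pow_le_pow_left₀ (Nat.cast_nonneg _) h4 A
  have h7 : (2 : ℝ) ^ (A + 1) ≤ L := by
    have h8 : ((2 : ℝ) ^ (A + 2)) ≤ n := by exact_mod_cast hn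
    have h9 : (n : ℝ) ≤ (n : ℝ) ^ 2 := by nlinarith
    have h10 : (2 : ℝ) ^ (A + 2) = 2 ^ (A + 1) * 2 := by rw [pow_succ]
    rw [hL]
    nlinarith
  calc 2 * (lg T : ℝ) ^ A ≤ 2 * (2 * L) ^ A := by linarith
    _ = 2 ^ (A + 1) * L ^ A := by rw [mul_pow, pow_succ]; ring
    _ ≤ L * L ^ A := mul_le_mul_of_nonneg_right h7 (by positivity)
    _ = L ^ (A + 1) := by rw [pow_succ]; ring

end num

end Cfsg.Agent.H858.RG
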